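import Mathlib
import Cfsg.Agent.Lib.SL2Pres.Steinberg
import Cfsg.Agent.S2426

/-!
The Steinberg relations of type `A`: conjugation by Weyl elements, rank one homomorphisms.
-/

set_option autoImplicit false

namespace CfsgLib.SLSteinberg

open CfsgLib.SL2Pres
open Multiplicative (ofAdd)
open scoped MatrixGroups

variable {K : Type*} [Field K] {n : ℕ} {G : Type*} [Group G]

/-- The Weyl elements. -/
def Ww (x : Fin n → Fin n → K → G) (a b : Fin n) (t : K) : G := x a b t * x b a (-t⁻¹) * x a b t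

/-- The commutator relations. -/
structure StComm (x : Fin n → Fin n → K → G) : Prop where
  add : ∀ i j t u, i ≠ j → x i j (t + u) = x i j t * x i j u
  comm0 : ∀ i j k l, i ≠ j → k ≠ l → i ≠ l → j ≠ k → ∀ t u, Commute (x i j t) (x k l u)
  comm1 : ∀ i j k, i ≠ j → j ≠ k → i ≠ k → ∀ t u,
    x i j t * x j k u * (x i j t)⁻¹ = x i k (t * u) * x j k u

/-- The Steinberg relations; the rank one relation is redundant for three or more indices. -/
structure StRel (x : Fin n → Fin n → K → G) : Prop extends StComm x where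
  rank1 : ∀ a b, a ≠ b → ∀ t u, t ≠ 0 → Ww x a b t * x a b u * (Ww x a b t)⁻¹
    = x b a (-(t⁻¹ ^ 2 * u))

section Comm

variable {x : Fin n → Fin n → K → G} (S : StComm x)
include S

theorem StComm.zero {i j : Fin n} (h : i ≠ j) : x i j 0 = 1 := by
  have := S.add i j 0 0 h
  rw [add_zero] at this
  exact left_eq_mul.1 this

theorem StComm.neg {i j : Fin n} (h : i ≠ j) (t : K) : x i j (-t) = (x i j t)⁻¹ := by
  rw [eq_inv_iff_mul_eq_one, ← S.add _ _ _ _ h, neg_add_cancel, S.zero h]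

theorem StComm.comm1' {i j k : Fin n} (hij : i ≠ j) (hjk : j ≠ k) (hik : i ≠ k) (t u : K) :
    x j k u * x i j t * (x j k u)⁻¹ = x i k (-(t * u)) * x i j t := by
  have h := S.comm1 i j k hij hjk hik t u
  rw [S.neg hik, mul_inv_eq_iff_eq_mul] at *
  rw [show x j k u * x i j t = (x i k (t * u))⁻¹ * (x i k (t * u) * (x j k u * x i j t)) by group,
    ← mul_assoc (x i k (t * u)), ← h]
  have hc : Commute (x i j t) (x i k (t * u)) := S.comm0 i j i k hij hik hik hij.symm t (t * u)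
  have hc' : Commute (x j k u) (x i k (t * u)) :=
    S.comm0 j k i k hjk hik hjk hik.symm u (t * u)
  simp only [mul_assoc]

theorem StComm.conj_ac {a b c : Fin n} (hab : a ≠ b) (hac : a ≠ c) (hbc : b ≠ c) {t : K}
    (ht : t ≠ 0) (u : K) : Ww x a b t * x a c u * (Ww x a b t)⁻¹ = x b c (-(u / t)) := by
  have e1 : x a b t * x a c u * (x a b t)⁻¹ = x a c u := by
    rw [(S.comm0 a b a c hab hac hac hab.symm t u).eq, mul_inv_cancel_right]
  calc Ww x a b t * x a c u * (Ww x a b t)⁻¹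
      = x a b t * (x b a (-t⁻¹) * (x a b t * x a c u * (x a b t)⁻¹) * (x b a (-t⁻¹))⁻¹)
          * (x a b t)⁻¹ := by simp only [Ww]; group
    _ = (x a b t * x b c (-t⁻¹ * u) * (x a b t)⁻¹) * (x a b t * x a c u * (x a b t)⁻¹) := by
        rw [e1, S.comm1 b a c hab.symm hac hbc]
        conv_rhs => arg 2; rw [← e1]
        group
    _ = x a c (t * (-t⁻¹ * u)) * x b c (-t⁻¹ * u) * x a c u := by
        rw [e1, S.comm1 a b c hab hbc hac]
    _ = x b c (-t⁻¹ * u) * (x a c (t * (-t⁻¹ * u)) * x a c u) := by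
        rw [(S.comm0 a c b c hac hbc hac hbc.symm _ _).eq, mul_assoc]
    _ = _ := by
        rw [← S.add _ _ _ _ hac, show t * (-t⁻¹ * u) + u = 0 by field_simp; ring, S.zero hac,
          mul_one]
        congr 1; field_simp

theorem StComm.conj_cb {a b c : Fin n} (hab : a ≠ b) (hac : a ≠ c) (hbc : b ≠ c) {t : K}
    (ht : t ≠ 0) (u : K) : Ww x a b t * x c b u * (Ww x a b t)⁻¹ = x c a (u / t) := by
  have e1 : x a b t * x c b u * (x a b t)⁻¹ = x c b u := by
    rw [(S.comm0 a b c b hab hbc.symm hab hbc t u).eq, mul_inv_cancel_right]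
  calc Ww x a b t * x c b u * (Ww x a b t)⁻¹
      = x a b t * (x b a (-t⁻¹) * (x a b t * x c b u * (x a b t)⁻¹) * (x b a (-t⁻¹))⁻¹)
          * (x a b t)⁻¹ := by simp only [Ww]; group
    _ = (x a b t * x c a (-(u * -t⁻¹)) * (x a b t)⁻¹) * (x a b t * x c b u * (x a b t)⁻¹) := by
        rw [e1, S.comm1' hbc.symm hab.symm hac.symm]
        conv_rhs => arg 2; rw [← e1]
        group
    _ = x c b (-(-(u * -t⁻¹) * t)) * x c a (-(u * -t⁻¹)) * x c b u := by
        rw [e1, S.comm1' hac.symm hab hbc.symm]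
    _ = x c a (-(u * -t⁻¹)) * (x c b (-(-(u * -t⁻¹) * t)) * x c b u) := by
        rw [(S.comm0 c b c a hbc.symm hac.symm hac.symm hbc _ _).eq, mul_assoc]
    _ = _ := by
        rw [← S.add _ _ _ _ hbc.symm, show -(-(u * -t⁻¹) * t) + u = 0 by field_simp; ring,
          S.zero hbc.symm, mul_one]
        congr 1; field_simp

theorem StComm.W_inv {a b : Fin n} (hab : a ≠ b) (t : K) : (Ww x a b t)⁻¹ = Ww x a b (-t) := by
  simp only [Ww, inv_neg, mul_inv_rev, ← S.neg hab, ← S.neg hab.symm, mul_assoc]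

theorem StComm.toRel (hthird : ∀ a b : Fin n, ∃ c, c ≠ a ∧ c ≠ b) : StRel x := by
  refine { toStComm := S, rank1 := fun a b hab t u ht => ?_ }
  obtain ⟨c, hca, hcb⟩ := hthird a b
  have e : x a b u = x a c u * x c b 1 * (x a c u)⁻¹ * (x c b 1)⁻¹ := by
    rw [S.comm1 a c b hca.symm hcb hab, mul_inv_cancel_right, mul_one]
  rw [e]
  calc Ww x a b t * (x a c u * x c b 1 * (x a c u)⁻¹ * (x c b 1)⁻¹) * (Ww x a b t)⁻¹
      = (Ww x a b t * x a c u * (Ww x a b t)⁻¹) * (Ww x a b t * x c b 1 * (Ww x a b t)⁻¹)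
        * (Ww x a b t * x a c u * (Ww x a b t)⁻¹)⁻¹
        * (Ww x a b t * x c b 1 * (Ww x a b t)⁻¹)⁻¹ := by group
    _ = _ := by
      rw [S.conj_ac hab hca.symm hcb.symm ht, S.conj_cb hab hca.symm hcb.symm ht,
        S.comm1 b c a hcb.symm hca hab.symm, mul_inv_cancel_right]
      congr 1; field_simp

end Comm

section Rel

variable {x : Fin n → Fin n → K → G} (S : StRel x)
include S

/-- The rank one system of a pair of indices. -/
theorem StRel.st2 {a b : Fin n} (hab : a ≠ b) :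
    St2 (fun c : Bool => if c then x a b else x b a) where
  add c t u := by cases c <;> simp [S.add _ _ _ _ hab, S.add _ _ _ _ hab.symm]
  rel c t u ht := by
    cases c
    · have := S.rank1 b a hab.symm t u ht
      simpa [Ww] using this
    · have := S.rank1 a b hab t u ht
      simpa [Ww] using this

theorem StRel.W_flip {a b : Fin n} (hab : a ≠ b) {t : K} (ht : t ≠ 0) :
    Ww x a b t = Ww x b a (-t⁻¹) := by
  have := (S.st2 hab).w_flip true ht
  simpa [wSt, Ww] using this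

theorem StRel.conj_bc {a b c : Fin n} (hab : a ≠ b) (hac : a ≠ c) (hbc : b ≠ c) {t : K}
    (ht : t ≠ 0) (u : K) : Ww x a b t * x b c u * (Ww x a b t)⁻¹ = x a c (t * u) := by
  rw [S.W_flip hab ht, S.conj_ac hab.symm hbc hac (neg_ne_zero.2 (inv_ne_zero ht))]
  congr 1; field_simp

theorem StRel.conj_ca {a b c : Fin n} (hab : a ≠ b) (hac : a ≠ c) (hbc : b ≠ c) {t : K}
    (ht : t ≠ 0) (u : K) : Ww x a b t * x c a u * (Ww x a b t)⁻¹ = x c b (-(t * u)) := by
  rw [S.W_flip hab ht, S.conj_cb hab.symm hbc hac (neg_ne_zero.2 (inv_ne_zero ht))]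
  congr 1; field_simp

theorem StRel.conj_disj {a b c d : Fin n} (hab : a ≠ b) (hcd : c ≠ d) (hca : c ≠ a) (hcb : c ≠ b)
    (hda : d ≠ a) (hdb : d ≠ b) (t u : K) :
    Ww x a b t * x c d u * (Ww x a b t)⁻¹ = x c d u := by
  have h1 : ∀ v, Commute (x a b v) (x c d u) := fun v =>
    S.comm0 a b c d hab hcd hda.symm hcb.symm v u
  have h2 : ∀ v, Commute (x b a v) (x c d u) := fun v =>
    S.comm0 b a c d hab.symm hcd hdb.symm hca.symm v u
  have : Commute (Ww x a b t) (x c d u) := ((h1 t).mul_left (h2 _)).mul_left (h1 t)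
  rw [this.eq, mul_inv_cancel_right]

theorem StRel.W_conj_ac {a b c : Fin n} (hab : a ≠ b) (hac : a ≠ c) (hbc : b ≠ c) {t s : K}
    (ht : t ≠ 0) (hs : s ≠ 0) :
    Ww x a b t * Ww x a c s * (Ww x a b t)⁻¹ = Ww x b c (-(s / t)) := by
  have e : Ww x a b t * Ww x a c s * (Ww x a b t)⁻¹ = (Ww x a b t * x a c s * (Ww x a b t)⁻¹)
      * (Ww x a b t * x c a (-s⁻¹) * (Ww x a b t)⁻¹) * (Ww x a b t * x a c s * (Ww x a b t)⁻¹) := by
    rw [Ww.eq_def x a c s]; group
  rw [e, S.conj_ac hab hac hbc ht, S.conj_ca hab hac hbc ht, Ww.eq_def x b c]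
  congr 3
  field_simp

theorem StRel.W_conj_bc {a b c : Fin n} (hab : a ≠ b) (hac : a ≠ c) (hbc : b ≠ c) {t s : K}
    (ht : t ≠ 0) (hs : s ≠ 0) :
    Ww x a b t * Ww x b c s * (Ww x a b t)⁻¹ = Ww x a c (t * s) := by
  rw [S.W_flip hab ht, S.W_conj_ac hab.symm hbc hac (neg_ne_zero.2 (inv_ne_zero ht)) hs]
  congr 1; field_simp

omit S in
/-- A hom out of SL₂ from rank one relations. -/
theorem exists_hom_of_st2 [Finite K] {e : Bool → K → G} (T : St2 e) :
    ∃ ψ : Matrix.SpecialLinearGroup (Fin 2) K →* G, ∀ b c,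
      ψ (Cfsg.Agent.S2426.root (b, c)) = e b c := by
  obtain ⟨iso, h1, h2⟩ := Cfsg.Agent.S2426.result (K := K)
  let f : Bool × K → G := fun p => e p.1 p.2
  refine ⟨(PresentedGroup.toGroup (f := f) ?_).comp iso.symm.toMonoidHom, ?_⟩
  · rintro r (⟨b, t, u, rfl⟩ | ⟨b, t, u, ht, rfl⟩)
    · simp only [map_mul, map_inv, FreeGroup.lift_apply_of, f]
      rw [mul_inv_eq_one, T.add]
    · simp only [map_mul, map_inv, FreeGroup.lift_apply_of, f]
      rw [mul_inv_eq_one]
      exact T.rel b t u ht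
  · intro b c
    have : Cfsg.Agent.S2426.root (b, c) = iso (PresentedGroup.of (b, c)) := by
      refine Subtype.ext ?_
      cases b
      · exact (h2 c).symm
      · exact (h1 c).symm
    rw [MonoidHom.comp_apply, this]
    show PresentedGroup.toGroup _ (iso.symm (iso (PresentedGroup.of (b, c)))) = _
    rw [MulEquiv.symm_apply_apply, PresentedGroup.toGroup.of]

/-- The SL₂ attached to a pair of indices. -/
noncomputable def StRel.psi [Finite K] {a b : Fin n} (hab : a ≠ b) :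
    Matrix.SpecialLinearGroup (Fin 2) K →* G :=
  (exists_hom_of_st2 (S.st2 hab)).choose

theorem StRel.psi_x [Finite K] {a b : Fin n} (hab : a ≠ b) (c : K) :
    S.psi hab (xHom K (ofAdd c)) = x a b c := by
  simpa [Cfsg.Agent.S2426.root, StRel.psi] using (exists_hom_of_st2 (S.st2 hab)).choose_spec true c

theorem StRel.psi_y [Finite K] {a b : Fin n} (hab : a ≠ b) (c : K) :
    S.psi hab (Cfsg.Agent.S2426.root (false, c)) = x b a c := by
  simpa [StRel.psi] using (exists_hom_of_st2 (S.st2 hab)).choose_spec false c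

omit S in
/-- The Weyl element with parameter. -/
def w2 (t : K) : Matrix.SpecialLinearGroup (Fin 2) K :=
  xHom K (ofAdd t) * Cfsg.Agent.S2426.root (false, -t⁻¹) * xHom K (ofAdd t)

theorem StRel.psi_w2 [Finite K] {a b : Fin n} (hab : a ≠ b) (t : K) :
    S.psi hab (w2 t) = Ww x a b t := by
  simp only [w2, map_mul, S.psi_x, S.psi_y, Ww]

omit S in
theorem w2_val {t : K} (ht : t ≠ 0) :
    ((w2 t : Matrix.SpecialLinearGroup (Fin 2) K) : Matrix (Fin 2) (Fin 2) K)
      = !![0, t; -t⁻¹, 0] := by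
  simp only [w2, Matrix.SpecialLinearGroup.coe_mul, xHom_val, Cfsg.Agent.S2426.root_val]
  ext i j
  fin_cases i <;> fin_cases j <;> simp [Matrix.mul_apply, Fin.sum_univ_two, ht]

/-- Torus elements. -/
noncomputable def StRel.H [Finite K] {a b : Fin n} (hab : a ≠ b) (μ : Kˣ) : G :=
  S.psi hab (hDiag μ)

theorem StRel.H_eq [Finite K] {a b : Fin n} (hab : a ≠ b) (μ : Kˣ) {c : K} (hc : c ≠ 0) :
    S.H hab μ = Ww x a b (c * μ) * (Ww x a b c)⁻¹ := by
  rw [StRel.H, ← S.psi_w2 hab, ← S.psi_w2 hab, ← map_inv, ← map_mul]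
  congr 1
  rw [eq_mul_inv_iff_mul_eq]
  refine Matrix.SpecialLinearGroup.ext _ _ fun i j => ?_
  rw [Matrix.SpecialLinearGroup.coe_mul, w2_val (mul_ne_zero hc μ.ne_zero), w2_val hc, hDiag_val]
  fin_cases i <;> fin_cases j <;> simp [Matrix.mul_apply, Fin.sum_univ_two] <;> ring

theorem StRel.H_flip [Finite K] {a b : Fin n} (hab : a ≠ b) (μ : Kˣ) :
    S.H hab μ = S.H hab.symm μ⁻¹ := by
  rw [S.H_eq hab μ (c := 1) one_ne_zero, S.H_eq hab.symm μ⁻¹ (c := -1) (by simp),
    S.W_flip hab (mul_ne_zero one_ne_zero μ.ne_zero), S.W_flip hab one_ne_zero]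
  simp

end Rel

end CfsgLib.SLSteinberg
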