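import Mathlib
import Cfsg.Agent.Lib.SLSteinberg.Basic

/-!
A group with the Steinberg relations of type `A` maps injectively onto the linear group.
-/

set_option autoImplicit false

namespace CfsgLib.SLSteinberg

open CfsgLib.SL2Pres
open Matrix
open Multiplicative (ofAdd toAdd)

variable {K : Type*} [Field K] {G : Type*} [Group G]

theorem closure_conj_mem {s : Set G} {H : Subgroup G} (g : G) (h : ∀ y ∈ s, g * y * g⁻¹ ∈ H)
    {y : G} (hy : y ∈ Subgroup.closure s) : g * y * g⁻¹ ∈ H := by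
  induction hy using Subgroup.closure_induction with
  | mem y hy => exact h y hy
  | one => simp
  | mul a b _ _ ha hb => rw [← conj_mul]; exact mul_mem ha hb
  | inv a _ ha => rw [← conj_inv]; exact inv_mem ha

theorem transvection_mulVec_single {N : ℕ} (p q r : Fin N) (t v : K) :
    transvection p q t *ᵥ Pi.single r v
      = Pi.single r v + if q = r then Pi.single p (t * v) else 0 := by
  rw [transvection, add_mulVec, one_mulVec]
  congr 1
  ext k
  split_ifs with h <;> simp [mulVec, dotProduct, Matrix.single_apply, Pi.single_apply, h, eq_comm]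
  all_goals (intros; simp_all)

theorem single_vecMul_transvection {N : ℕ} (p q r : Fin N) (t v : K) :
    Pi.single r v ᵥ* transvection p q t
      = Pi.single r v + if p = r then Pi.single q (v * t) else 0 := by
  rw [single_vecMul, transvection]
  ext k
  simp only [Pi.smul_apply, row_apply, Matrix.add_apply, Matrix.one_apply, Matrix.single_apply,
    smul_eq_mul, Pi.add_apply]
  by_cases h1 : p = r <;> by_cases h2 : q = k <;> by_cases h3 : r = k <;>
    simp_all [mul_add, eq_comm]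

section Main

variable {m N : ℕ} {x : Fin (m + 2) → Fin (m + 2) → K → G} (S : StRel x)

/-- Column subgroups. -/
def colGroup (x : Fin (m + 2) → Fin (m + 2) → K → G) (k : Fin (m + 2)) : Subgroup G :=
  Subgroup.closure {g | ∃ l, l ≠ k ∧ ∃ t, g = x l k t}

/-- Row subgroup of the first index. -/
def rowGroup (x : Fin (m + 2) → Fin (m + 2) → K → G) : Subgroup G :=
  Subgroup.closure {g | ∃ l, l ≠ 0 ∧ ∃ t, g = x 0 l t}

/-- The subgroup of the remaining indices. -/
def tailGroup (x : Fin (m + 2) → Fin (m + 2) → K → G) : Subgroup G :=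
  Subgroup.closure {g | ∃ i j, i ≠ j ∧ i ≠ 0 ∧ j ≠ 0 ∧ ∃ t, g = x i j t}

theorem col_mem {k l : Fin (m + 2)} (h : l ≠ k) (t : K) : x l k t ∈ colGroup x k :=
  Subgroup.subset_closure ⟨l, h, t, rfl⟩

theorem row_mem {l : Fin (m + 2)} (h : l ≠ 0) (t : K) : x 0 l t ∈ rowGroup x :=
  Subgroup.subset_closure ⟨l, h, t, rfl⟩

theorem tail_mem {i j : Fin (m + 2)} (hij : i ≠ j) (hi : i ≠ 0) (hj : j ≠ 0) (t : K) :
    x i j t ∈ tailGroup x :=
  Subgroup.subset_closure ⟨i, j, hij, hi, hj, t, rfl⟩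

include S

theorem col_param {f : Fin (m + 2) → K → G} (k : Fin (m + 2))
    (hadd : ∀ l, l ≠ k → ∀ t u, f l (t + u) = f l t * f l u)
    (hcomm : ∀ l l', l ≠ k → l' ≠ k → ∀ t u, Commute (f l t) (f l' u)) :
    ∃ ρ : (∀ _l : {l // l ≠ k}, Multiplicative K) →* G,
      (∀ l t, ρ (Pi.mulSingle l (ofAdd t)) = f l.1 t) ∧
      ∀ g, g ∈ Subgroup.closure {g | ∃ l, l ≠ k ∧ ∃ t, g = f l t} → ∃ r, g = ρ r := by
  classical
  let φl : ∀ _l : {l // l ≠ k}, Multiplicative K →* G := fun l =>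
    { toFun := fun t => f l.1 t.toAdd
      map_one' := by
        have := hadd l.1 l.2 0 0
        rw [add_zero] at this
        exact left_eq_mul.1 this
      map_mul' := fun a b => hadd l.1 l.2 _ _ }
  refine ⟨MonoidHom.noncommPiCoprod φl (fun i j _ a b => hcomm _ _ i.2 j.2 _ _), fun l t => ?_,
    fun g hg => ?_⟩
  · exact (MonoidHom.noncommPiCoprod_mulSingle _ _ _).trans rfl
  · have h : g ∈ (MonoidHom.noncommPiCoprod φl
        (fun i j _ a b => hcomm _ _ i.2 j.2 _ _)).range := by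
      refine (Subgroup.closure_le _).2 ?_ hg
      rintro _ ⟨l, hl, t, rfl⟩
      exact ⟨Pi.mulSingle ⟨l, hl⟩ (ofAdd t), (MonoidHom.noncommPiCoprod_mulSingle _ _ _).trans rfl⟩
    obtain ⟨r, hr⟩ := h
    exact ⟨r, hr.symm⟩

variable [Finite K]

/-- The stabiliser of the first line. -/
def bigQ : Subgroup G :=
  Subgroup.closure ({g | ∃ i j, i ≠ j ∧ j ≠ 0 ∧ ∃ t, g = x i j t} ∪
    {g | ∃ μ : Kˣ, g = S.H (zero_ne_one : (0 : Fin (m + 2)) ≠ 1) μ})

theorem q_mem {i j : Fin (m + 2)} (hij : i ≠ j) (hj : j ≠ 0) (t : K) : x i j t ∈ bigQ S :=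
  Subgroup.subset_closure (Or.inl ⟨i, j, hij, hj, t, rfl⟩)

theorem q_W {a b : Fin (m + 2)} (hab : a ≠ b) (ha : a ≠ 0) (hb : b ≠ 0) (t : K) :
    Ww x a b t ∈ bigQ S :=
  mul_mem (mul_mem (q_mem S hab hb _) (q_mem S hab.symm ha _)) (q_mem S hab hb _)

theorem q_H {l : Fin (m + 2)} (h0 : (0 : Fin (m + 2)) ≠ l) (μ : Kˣ) : S.H h0 μ ∈ bigQ S := by
  by_cases h1 : l = 1
  · subst h1
    exact Subgroup.subset_closure (Or.inr ⟨μ, rfl⟩)
  · have h01 : (0 : Fin (m + 2)) ≠ 1 := zero_ne_one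
    have hl0 : l ≠ 0 := h0.symm
    have h1l : (1 : Fin (m + 2)) ≠ l := Ne.symm h1
    have conjW : ∀ s : K, s ≠ 0 →
        Ww x 1 l 1 * Ww x 0 1 s * (Ww x 1 l 1)⁻¹ = Ww x 0 l (-s) := by
      intro s hs
      rw [S.W_flip h01 hs, S.W_conj_ac h1l h01.symm hl0 one_ne_zero
        (neg_ne_zero.2 (inv_ne_zero hs)), S.W_flip hl0 (by simpa using hs)]
      congr 1; field_simp
    have e : S.H h0 μ = Ww x 1 l 1 * S.H h01 μ * (Ww x 1 l 1)⁻¹ := by
      rw [S.H_eq h0 μ (c := -1) (by simp), S.H_eq h01 μ (c := 1) one_ne_zero, ← conj_mul,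
        ← conj_inv, conjW _ (mul_ne_zero one_ne_zero μ.ne_zero), conjW _ one_ne_zero,
        one_mul, neg_one_mul]
    rw [e]
    exact mul_mem (mul_mem (q_W S h1l one_ne_zero hl0 1) (Subgroup.subset_closure (Or.inr ⟨μ, rfl⟩)))
      (inv_mem (q_W S h1l one_ne_zero hl0 1))

theorem H_conj_base (μ : Kˣ) {i j : Fin (m + 2)} (hij : i ≠ j) (t : K) :
    ∃ t', S.H (zero_ne_one : (0 : Fin (m + 2)) ≠ 1) μ * x i j t
      * (S.H (zero_ne_one : (0 : Fin (m + 2)) ≠ 1) μ)⁻¹ = x i j t' := by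
  have h01 : (0 : Fin (m + 2)) ≠ 1 := zero_ne_one
  by_cases hA : i = 0 ∧ j = 1
  · obtain ⟨rfl, rfl⟩ := hA
    refine ⟨(μ : K) ^ 2 * t, ?_⟩
    rw [StRel.H, ← S.psi_x h01, ← map_inv, ← map_mul, ← map_mul, sl2_conj, S.psi_x]
  by_cases hB : i = 1 ∧ j = 0
  · obtain ⟨rfl, rfl⟩ := hB
    refine ⟨((μ⁻¹ : Kˣ) : K) ^ 2 * t, ?_⟩
    rw [S.H_flip h01, StRel.H, ← S.psi_x h01.symm, ← map_inv, ← map_mul, ← map_mul, sl2_conj,
      S.psi_x]
  -- the conjugating element is a product of two Weyl elements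
  have e : ∀ y, S.H h01 μ * y * (S.H h01 μ)⁻¹
      = Ww x 0 1 (μ : K) * (Ww x 0 1 (-1) * y * (Ww x 0 1 (-1))⁻¹) * (Ww x 0 1 (μ : K))⁻¹ := by
    intro y
    rw [S.H_eq h01 μ (c := 1) one_ne_zero, one_mul, S.W_inv h01]
    group
  have hn : (-1 : K) ≠ 0 := neg_ne_zero.2 one_ne_zero
  have hμ := μ.ne_zero
  by_cases hi0 : i = 0
  · subst hi0
    have hj1 : j ≠ 1 := fun h => hA ⟨rfl, h⟩
    exact ⟨_, by rw [e, S.conj_ac h01 hij hj1.symm hn, S.conj_bc h01 hij hj1.symm hμ]⟩
  by_cases hi1 : i = 1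
  · subst hi1
    have hj0 : j ≠ 0 := fun h => hB ⟨rfl, h⟩
    exact ⟨_, by rw [e, S.conj_bc h01 hj0.symm hij hn, S.conj_ac h01 hj0.symm hij hμ]⟩
  by_cases hj0 : j = 0
  · subst hj0
    exact ⟨_, by rw [e, S.conj_ca h01 (Ne.symm hi0) (Ne.symm hi1) hn,
      S.conj_cb h01 (Ne.symm hi0) (Ne.symm hi1) hμ]⟩
  by_cases hj1 : j = 1
  · subst hj1
    exact ⟨_, by rw [e, S.conj_cb h01 (Ne.symm hi0) (Ne.symm hi1) hn,
      S.conj_ca h01 (Ne.symm hi0) (Ne.symm hi1) hμ]⟩
  exact ⟨_, by rw [e, S.conj_disj h01 hij hi0 hi1 hj0 hj1, S.conj_disj h01 hij hi0 hi1 hj0 hj1]⟩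

theorem q_normal_form {g : G} (hg : g ∈ bigQ S) : ∃ c ∈ rowGroup x, ∃ a ∈ tailGroup x, ∃ μ : Kˣ,
    g = c * a * S.H (zero_ne_one : (0 : Fin (m + 2)) ≠ 1) μ := by
  set P : G → Prop := fun g => ∃ c ∈ rowGroup x, ∃ a ∈ tailGroup x, ∃ μ : Kˣ,
    g = c * a * S.H (zero_ne_one : (0 : Fin (m + 2)) ≠ 1) μ
  have hx : ∀ i j, i ≠ j → j ≠ 0 → ∀ t y, P y → P (x i j t * y) := by
    rintro i j hij hj t _ ⟨c, hc, a, ha, μ, rfl⟩
    by_cases hi : i = 0
    · subst hi
      exact ⟨x 0 j t * c, mul_mem (row_mem hj t) hc, a, ha, μ, by simp only [mul_assoc]⟩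
    · refine ⟨x i j t * c * (x i j t)⁻¹, closure_conj_mem _ ?_ hc, x i j t * a,
        mul_mem (tail_mem hij hi hj t) ha, μ, by group⟩
      rintro _ ⟨l, hl, u, rfl⟩
      by_cases hil : l = i
      · subst hil
        rw [S.comm1' hl.symm hij hj.symm]
        exact mul_mem (row_mem hj _) (row_mem hl _)
      · rw [(S.comm0 i j 0 l hij hl.symm (Ne.symm hil) hj t u).eq, mul_inv_cancel_right]
        exact row_mem hl _
  have hh : ∀ (ν : Kˣ) y, P y → P (S.H (zero_ne_one : (0 : Fin (m + 2)) ≠ 1) ν * y) := by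
    rintro ν _ ⟨c, hc, a, ha, μ, rfl⟩
    set h := S.H (zero_ne_one : (0 : Fin (m + 2)) ≠ 1) ν
    refine ⟨h * c * h⁻¹, closure_conj_mem _ ?_ hc, h * a * h⁻¹, closure_conj_mem _ ?_ ha, ν * μ, ?_⟩
    · rintro _ ⟨l, hl, u, rfl⟩
      obtain ⟨u', hu⟩ := H_conj_base S ν hl.symm u
      rw [hu]; exact row_mem hl _
    · rintro _ ⟨i, j, hij, hi, hj, u, rfl⟩
      obtain ⟨u', hu⟩ := H_conj_base S ν hij u
      rw [hu]; exact tail_mem hij hi hj _
    · rw [StRel.H, StRel.H, map_mul, map_mul]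
      show _ = _ * (S.psi _ (hDiag ν) * _)
      simp only [h, StRel.H]
      group
  refine Subgroup.closure_induction_left (p := fun g _ => P g)
    ⟨1, one_mem _, 1, one_mem _, 1, by simp [StRel.H]⟩ ?_ ?_ hg
  · rintro y (⟨i, j, hij, hj, t, rfl⟩ | ⟨ν, rfl⟩) z _ hz
    · exact hx i j hij hj t z hz
    · exact hh ν z hz
  · rintro y (⟨i, j, hij, hj, t, rfl⟩ | ⟨ν, rfl⟩) z _ hz
    · rw [← S.neg hij]; exact hx i j hij hj _ z hz
    · rw [StRel.H, ← map_inv, ← map_inv]; exact hh ν⁻¹ z hz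

open _root_.Classical in
omit S in
/-- Cell representatives. -/
noncomputable def wk (x : Fin (m + 2) → Fin (m + 2) → K → G) (k : Fin (m + 2)) : G :=
  if k = 0 then 1 else Ww x k 0 1

theorem wk_inv_x {k i j : Fin (m + 2)} (hij : i ≠ j) (hjk : j ≠ k) (t : K) :
    (wk x k)⁻¹ * x i j t * wk x k ∈ bigQ S := by
  rw [wk]
  split_ifs with hk
  · subst hk
    simpa using q_mem S hij hjk t
  · rw [show (Ww x k 0 1)⁻¹ * x i j t * Ww x k 0 1
        = (Ww x k 0 1)⁻¹ * x i j t * ((Ww x k 0 1)⁻¹)⁻¹ by rw [inv_inv], S.W_inv hk]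
    have hn : (-1 : K) ≠ 0 := neg_ne_zero.2 one_ne_zero
    by_cases hik : i = k
    · subst hik
      by_cases hj0 : j = 0
      · subst hj0
        rw [S.rank1 _ _ hk _ _ hn]
        exact q_mem S (Ne.symm hk) hk _
      · rw [S.conj_ac hk hij (Ne.symm hj0) hn]
        exact q_mem S (Ne.symm hj0) hj0 _
    by_cases hi0 : i = 0
    · subst hi0
      rw [S.conj_bc hk hjk.symm hij hn]
      exact q_mem S hjk.symm (Ne.symm hij) _
    by_cases hj0 : j = 0
    · subst hj0
      rw [S.conj_cb hk (Ne.symm hik) (Ne.symm hi0) hn]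
      exact q_mem S hik hk _
    · rw [S.conj_disj hk hij hik hi0 hjk hj0]
      exact q_mem S hij hj0 _

theorem wk_inv_H {k j : Fin (m + 2)} (hkj : k ≠ j) (μ : Kˣ) :
    (wk x k)⁻¹ * S.H hkj μ * wk x k ∈ bigQ S := by
  rw [wk]
  split_ifs with hk
  · subst hk
    simpa using q_H S hkj μ
  · have hn : (-1 : K) ≠ 0 := neg_ne_zero.2 one_ne_zero
    rw [show (Ww x k 0 1)⁻¹ * S.H hkj μ * Ww x k 0 1
        = (Ww x k 0 1)⁻¹ * S.H hkj μ * ((Ww x k 0 1)⁻¹)⁻¹ by rw [inv_inv], S.W_inv hk]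
    by_cases hj : j = 0
    · subst hj
      have hmem : S.H hkj μ ∈ (S.psi hkj).range := ⟨_, rfl⟩
      have e : Ww x k 0 (-1) * S.H hkj μ * (Ww x k 0 (-1))⁻¹ = S.H hkj μ⁻¹ := by
        rw [StRel.H, StRel.H, ← S.psi_w2 hkj, ← map_inv, ← map_mul, ← map_mul]
        congr 1
        rw [mul_inv_eq_iff_eq_mul]
        refine Matrix.SpecialLinearGroup.ext _ _ fun i j => ?_
        rw [Matrix.SpecialLinearGroup.coe_mul, Matrix.SpecialLinearGroup.coe_mul, w2_val hn,
          hDiag_val, hDiag_val]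
        fin_cases i <;> fin_cases j <;> simp [Matrix.mul_apply, Fin.sum_univ_two]
      rw [e, S.H_flip hkj, inv_inv]
      exact q_H S _ _
    · have conjW : ∀ s : K, s ≠ 0 →
          Ww x k 0 (-1) * Ww x k j s * (Ww x k 0 (-1))⁻¹ = Ww x 0 j s := by
        intro s hs
        rw [S.W_conj_ac hk hkj (Ne.symm hj) hn hs]
        congr 1; field_simp
      have e : Ww x k 0 (-1) * S.H hkj μ * (Ww x k 0 (-1))⁻¹ = S.H (Ne.symm hj) μ := by
        rw [S.H_eq hkj μ (c := 1) one_ne_zero, S.H_eq (Ne.symm hj) μ (c := 1) one_ne_zero,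
          ← conj_mul, ← conj_inv, conjW _ (mul_ne_zero one_ne_zero μ.ne_zero),
          conjW _ one_ne_zero]
      rw [e]
      exact q_H S _ _

theorem W_mul_wk {k j : Fin (m + 2)} (hkj : k ≠ j) {t : K} (ht : t ≠ 0) :
    ∃ q ∈ bigQ S, Ww x k j t * wk x k = wk x j * q := by
  refine ⟨(wk x j)⁻¹ * (Ww x k j t * wk x k), ?_, by rw [mul_inv_cancel_left]⟩
  have hwj : ∀ (hj : j ≠ 0) (c : K), c ≠ 0 → (wk x j)⁻¹ * Ww x j 0 c ∈ bigQ S := by
    intro hj c hc
    have : Ww x j 0 c = S.H hj (Units.mk0 c hc) * wk x j := by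
      rw [S.H_eq hj _ (c := 1) one_ne_zero, wk, if_neg hj, inv_mul_cancel_right, one_mul,
        Units.val_mk0]
    rw [this, ← mul_assoc]
    exact wk_inv_H S hj _
  by_cases hk : k = 0
  · subst hk
    have hj : j ≠ 0 := hkj.symm
    rw [show wk x (0 : Fin (m + 2)) = 1 from if_pos rfl, mul_one, S.W_flip hkj ht]
    exact hwj hj _ (neg_ne_zero.2 (inv_ne_zero ht))
  by_cases hj : j = 0
  · subst hj
    rw [show wk x (0 : Fin (m + 2)) = 1 from if_pos rfl, inv_one, one_mul, wk, if_neg hk]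
    have e : Ww x k 0 t * Ww x k 0 1 = S.H hk (Units.mk0 (-t) (neg_ne_zero.2 ht)) := by
      rw [S.H_eq hk _ (c := -1) (neg_ne_zero.2 one_ne_zero), S.W_inv hk, neg_neg, Units.val_mk0,
        neg_mul_neg, one_mul]
    rw [e, S.H_flip hk]
    exact q_H S _ _
  · have e : Ww x k j t * wk x k = Ww x j 0 (-(1 / t)) * Ww x k j t := by
      rw [wk, if_neg hk, ← S.W_conj_ac hkj hk hj ht (one_ne_zero (α := K)), inv_mul_cancel_right]
    rw [e, ← mul_assoc]
    exact mul_mem (hwj hj _ (by simpa using ht)) (q_W S hkj hk hj t)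

/-- Cells. -/
def Cell (k : Fin (m + 2)) (g : G) : Prop :=
  ∃ e ∈ colGroup x k, ∃ q ∈ bigQ S, g = e * wk x k * q

theorem cells_x_mul {i j k : Fin (m + 2)} (hij : i ≠ j) (t : K) {g : G} (hg : Cell S k g) :
    ∃ l, Cell S l (x i j t * g) := by
  classical
  obtain ⟨e, he, q, hq, rfl⟩ := hg
  by_cases hjk : j = k
  · subst hjk
    exact ⟨j, x i j t * e, mul_mem (col_mem hij t) he, q, hq, by simp only [mul_assoc]⟩
  by_cases hik : i = k
  · subst hik
    replace hjk : j ≠ i := hjk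
    -- `e = x j i a * R` with `R` avoiding the row `j`
    set R0 := Subgroup.closure {g | ∃ l, l ≠ i ∧ l ≠ j ∧ ∃ u, g = x l i u}
    have hsplit : ∃ (a : K) (R : G), R ∈ R0 ∧ e = x j i a * R := by
      induction he using Subgroup.closure_induction_left with
      | one => exact ⟨0, 1, one_mem _, by rw [S.zero hjk, mul_one]⟩
      | mul_left y hy z _ ih =>
        obtain ⟨l, hl, u, rfl⟩ := hy
        obtain ⟨a, R, hR, rfl⟩ := ih
        by_cases hlj : l = j
        · subst hlj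
          exact ⟨u + a, R, hR, by rw [S.add _ _ _ _ hl, mul_assoc]⟩
        · refine ⟨a, x l i u * R, mul_mem (Subgroup.subset_closure ⟨l, hl, hlj, u, rfl⟩) hR, ?_⟩
          rw [← mul_assoc, (S.comm0 l i j i hl hjk hl hjk.symm u a).eq, mul_assoc]
      | inv_mul_cancel y hy z _ ih =>
        obtain ⟨l, hl, u, rfl⟩ := hy
        obtain ⟨a, R, hR, rfl⟩ := ih
        rw [← S.neg hl]
        by_cases hlj : l = j
        · subst hlj
          exact ⟨-u + a, R, hR, by rw [S.add _ _ _ _ hl, mul_assoc]⟩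
        · refine ⟨a, x l i (-u) * R,
            mul_mem (Subgroup.subset_closure ⟨l, hl, hlj, _, rfl⟩) hR, ?_⟩
          rw [← mul_assoc, (S.comm0 l i j i hl hjk hl hjk.symm _ a).eq, mul_assoc]
    obtain ⟨a, R, hR, rfl⟩ := hsplit
    clear he
    -- the auxiliary column
    set S0 := Subgroup.closure {g | ∃ l, l ≠ i ∧ l ≠ j ∧ ∃ u, g = x l j u}
    have hS0j : S0 ≤ colGroup x j := Subgroup.closure_mono fun g ⟨l, _, hl, u, h⟩ => ⟨l, hl, u, h⟩
    have hR0i : R0 ≤ colGroup x i := Subgroup.closure_mono fun g ⟨l, hl, _, u, h⟩ => ⟨l, hl, u, h⟩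
    have hRS : ∀ y ∈ R0, ∀ z ∈ S0, Commute y z := by
      intro y hy z hz
      induction hy using Subgroup.closure_induction with
      | mem y hy =>
        obtain ⟨l, hli, hlj, u, rfl⟩ := hy
        induction hz using Subgroup.closure_induction with
        | mem z hz =>
          obtain ⟨l', hl'i, hl'j, v, rfl⟩ := hz
          exact S.comm0 l i l' j hli hl'j hlj (Ne.symm hl'i) u v
        | one => exact Commute.one_right _
        | mul a b _ _ ha hb => exact ha.mul_right hb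
        | inv a _ ha => exact ha.inv_right
      | one => exact Commute.one_left _
      | mul a b _ _ ha hb => exact ha.mul_left hb
      | inv a _ ha => exact ha.inv_left
    have hconj : ∃ R' ∈ R0, ∃ T ∈ S0, x i j t * R * (x i j t)⁻¹ = R' * T := by
      induction hR using Subgroup.closure_induction with
      | mem y hy =>
        obtain ⟨l, hli, hlj, u, rfl⟩ := hy
        refine ⟨x l i u, Subgroup.subset_closure ⟨l, hli, hlj, u, rfl⟩, x l j (-(u * t)),
          Subgroup.subset_closure ⟨l, hli, hlj, _, rfl⟩, ?_⟩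
        rw [S.comm1' hli hij hlj, (S.comm0 l j l i hlj hli hli hlj.symm _ _).eq]
      | one => exact ⟨1, one_mem _, 1, one_mem _, by simp⟩
      | mul a b _ _ ha hb =>
        obtain ⟨a1, ha1, a2, ha2, ea⟩ := ha
        obtain ⟨b1, hb1, b2, hb2, eb⟩ := hb
        refine ⟨a1 * b1, mul_mem ha1 hb1, a2 * b2, mul_mem ha2 hb2, ?_⟩
        rw [← conj_mul, ea, eb]
        exact Commute.mul_mul_mul_comm (hRS b1 hb1 a2 ha2).symm _ _
      | inv a _ ha =>
        obtain ⟨a1, ha1, a2, ha2, ea⟩ := ha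
        refine ⟨a1⁻¹, inv_mem ha1, a2⁻¹, inv_mem ha2, ?_⟩
        rw [← conj_inv, ea, _root_.mul_inv_rev]
        exact ((hRS a1 ha1 a2 ha2).inv_inv).eq.symm
    obtain ⟨R', hR', T, hT, hRT⟩ := hconj
    have hRa : x j i a * R = R * x j i a := by
      have : ∀ y ∈ R0, Commute (x j i a) y := fun y hy => by
        induction hy using Subgroup.closure_induction with
        | mem y hy =>
          obtain ⟨l, hl, hlj, u, rfl⟩ := hy
          exact S.comm0 j i l i hjk hl hjk hl.symm a u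
        | one => exact Commute.one_right _
        | mul a b _ _ ha hb => exact ha.mul_right hb
        | inv a _ ha => exact ha.inv_right
      exact (this R hR).eq
    have hxg : x i j t * (x j i a * R * wk x i * q) = R' * T * (x i j t * x j i a) * wk x i * q := by
      rw [hRa, ← hRT]; group
    rw [hxg]
    have hwT : ∀ y ∈ S0, (wk x i)⁻¹ * y * wk x i ∈ bigQ S := by
      intro y hy
      have := closure_conj_mem (H := bigQ S) (wk x i)⁻¹ (fun z hz => by
        obtain ⟨l, hli, hlj, u, rfl⟩ := hz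
        rw [inv_inv]
        exact wk_inv_x S hlj hjk u) hy
      rwa [inv_inv] at this
    by_cases hta : 1 + t * a = 0
    · refine ⟨j, T, hS0j hT, ?_⟩
      have ht : t ≠ 0 := fun h => by simp [h] at hta
      have e1 : x i j t * x j i a = Ww x i j t * x i j (-t) := by
        rw [← S.psi_x hij, ← S.psi_x hij, ← S.psi_y hij, ← S.psi_w2 hij, ← map_mul, ← map_mul]
        congr 1
        refine Matrix.SpecialLinearGroup.ext _ _ fun k l => ?_
        rw [Matrix.SpecialLinearGroup.coe_mul, Matrix.SpecialLinearGroup.coe_mul, w2_val ht,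
          xHom_val, xHom_val, Cfsg.Agent.S2426.root_val]
        fin_cases k <;> fin_cases l <;> simp [Matrix.mul_apply, Fin.sum_univ_two]
        all_goals field_simp
        all_goals linear_combination hta
      obtain ⟨q1, hq1, e2⟩ := W_mul_wk S hij ht
      have hR'' : (Ww x i j t)⁻¹ * R' * Ww x i j t ∈ S0 := by
        have := closure_conj_mem (H := S0) (Ww x i j t)⁻¹ (fun z hz => by
          obtain ⟨l, hli, hlj, u, rfl⟩ := hz
          rw [S.W_inv hij, S.conj_ca hij (Ne.symm hli) (Ne.symm hlj) (neg_ne_zero.2 ht)]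
          exact Subgroup.subset_closure ⟨l, hli, hlj, _, rfl⟩) hR'
        rwa [inv_inv] at this
      refine ⟨q1 * ((wk x i)⁻¹ * ((Ww x i j t)⁻¹ * R' * Ww x i j t) * wk x i)
        * ((wk x i)⁻¹ * x i j (-t) * wk x i) * q, ?_, ?_⟩
      · exact mul_mem (mul_mem (mul_mem hq1 (hwT _ hR'')) (wk_inv_x S hij hjk _)) hq
      · rw [e1, (hRS R' hR' T hT).eq,
          show T * wk x j * (q1 * ((wk x i)⁻¹ * ((Ww x i j t)⁻¹ * R' * Ww x i j t) * wk x i)
            * ((wk x i)⁻¹ * x i j (-t) * wk x i) * q)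
            = T * (wk x j * q1) * (wk x i)⁻¹ * ((Ww x i j t)⁻¹ * R' * Ww x i j t) * x i j (-t)
              * wk x i * q by group, ← e2]
        group
    · set μ : Kˣ := Units.mk0 _ hta
      set a' := a / (1 + t * a)
      have e1 : x i j t * x j i a = x j i a' * S.H hij μ * x i j (t / (1 + t * a)) := by
        rw [← S.psi_x hij, ← S.psi_x hij, ← S.psi_y hij, ← S.psi_y hij, StRel.H, ← map_mul,
          ← map_mul, ← map_mul]
        congr 1
        refine Matrix.SpecialLinearGroup.ext _ _ fun k l => ?_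
        simp only [Matrix.SpecialLinearGroup.coe_mul, xHom_val, Cfsg.Agent.S2426.root_val,
          hDiag_val]
        fin_cases k <;> fin_cases l <;>
          simp [Matrix.mul_apply, Fin.sum_univ_two, μ, a']
        all_goals grind
      have hTa : T * x j i a' * T⁻¹ ∈ colGroup x i := by
        have key : ∀ y ∈ S0, ∀ z ∈ colGroup x i,
            y * z * y⁻¹ ∈ colGroup x i ∧ y⁻¹ * z * y⁻¹⁻¹ ∈ colGroup x i := by
          have gen : ∀ l u, l ≠ i → l ≠ j → ∀ z ∈ colGroup x i,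
              x l j u * z * (x l j u)⁻¹ ∈ colGroup x i := by
            intro l u hli hlj z hz
            refine closure_conj_mem _ ?_ hz
            rintro _ ⟨l', hl', v, rfl⟩
            by_cases hjl : l' = j
            · subst hjl
              rw [S.comm1 l l' i hlj hjk hli]
              exact mul_mem (col_mem hli _) (col_mem hl' _)
            · rw [(S.comm0 l j l' i hlj hl' hli (Ne.symm hjl) u v).eq, mul_inv_cancel_right]
              exact col_mem hl' _
          intro y hy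
          induction hy using Subgroup.closure_induction with
          | mem y hy =>
            obtain ⟨l, hli, hlj, u, rfl⟩ := hy
            exact fun z hz => ⟨gen l u hli hlj z hz, by
              rw [← S.neg hlj]; exact gen l (-u) hli hlj z hz⟩
          | one => simp
          | mul a b _ _ ha hb =>
            intro z hz
            refine ⟨?_, ?_⟩
            · rw [show a * b * z * (a * b)⁻¹ = a * (b * z * b⁻¹) * a⁻¹ by group]
              exact (ha _ (hb z hz).1).1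
            · rw [show (a * b)⁻¹ * z * (a * b)⁻¹⁻¹ = b⁻¹ * (a⁻¹ * z * a⁻¹⁻¹) * b⁻¹⁻¹ by group]
              exact (hb _ (ha z hz).2).2
          | inv a _ ha =>
            intro z hz
            refine ⟨(ha z hz).2, ?_⟩
            rw [inv_inv]
            exact (ha z hz).1
        exact (key T hT _ (col_mem hjk _)).1
      refine ⟨i, R' * (T * x j i a' * T⁻¹), mul_mem (hR0i hR') hTa,
        ((wk x i)⁻¹ * T * wk x i) * ((wk x i)⁻¹ * S.H hij μ * wk x i)
          * ((wk x i)⁻¹ * x i j (t / (1 + t * a)) * wk x i) * q,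
        mul_mem (mul_mem (mul_mem (hwT _ hT) (wk_inv_H S hij μ)) (wk_inv_x S hij hjk _)) hq, ?_⟩
      rw [e1]; group
  · -- the generator normalises the column
    refine ⟨k, x i j t * e * (x i j t)⁻¹, closure_conj_mem _ ?_ he,
      ((wk x k)⁻¹ * x i j t * wk x k) * q, mul_mem (wk_inv_x S hij hjk t) hq, by group⟩
    rintro _ ⟨l, hl, u, rfl⟩
    by_cases hlj : l = j
    · subst hlj
      rw [S.comm1 i l k hij hjk hik]
      exact mul_mem (col_mem hik _) (col_mem hl _)
    · rw [(S.comm0 i j l k hij hl hik (Ne.symm hlj) t u).eq, mul_inv_cancel_right]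
      exact col_mem hl _

end Main

end CfsgLib.SLSteinberg
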