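import Mathlib
import Cfsg.Agent.Lib.SLSteinberg.Cells

/-!
The universal property of SL_n over a finite field with respect to the Steinberg relations.
-/

set_option autoImplicit false

namespace CfsgLib.SLSteinberg

open CfsgLib.SL2Pres
open Matrix
open Multiplicative (ofAdd toAdd)

variable {K : Type*} [Field K]

/-- The column action. -/
noncomputable def colAct {G : Type*} [Group G] {N : ℕ}
    (φ : G →* Matrix.SpecialLinearGroup (Fin N) K) : G →* Module.End K (Fin N → K) where
  toFun g := Matrix.toLin' ((φ g : Matrix.SpecialLinearGroup (Fin N) K) : Matrix (Fin N) (Fin N) K)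
  map_one' := by rw [map_one, Matrix.SpecialLinearGroup.coe_one, Matrix.toLin'_one]; rfl
  map_mul' g h := by
    rw [map_mul, Matrix.SpecialLinearGroup.coe_mul, Matrix.toLin'_mul]; rfl

/-- The row action. -/
noncomputable def rowAct {G : Type*} [Group G] {N : ℕ}
    (φ : G →* Matrix.SpecialLinearGroup (Fin N) K) : G →* Module.End K (Fin N → K) where
  toFun g := Matrix.vecMulLinear
    ((φ g⁻¹ : Matrix.SpecialLinearGroup (Fin N) K) : Matrix (Fin N) (Fin N) K)
  map_one' := by
    apply LinearMap.ext
    intro v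
    simp
  map_mul' g h := by
    apply LinearMap.ext
    intro v
    simp [Matrix.vecMul_vecMul]

theorem param_act [Finite K] {G : Type*} [Group G] {m N : ℕ} {x : Fin (m + 2) → Fin (m + 2) → K → G}
    (S : StRel x) {f : Fin (m + 2) → K → G} (k : Fin (m + 2))
    (hadd : ∀ l, l ≠ k → ∀ t u, f l (t + u) = f l t * f l u)
    (hcomm : ∀ l l', l ≠ k → l' ≠ k → ∀ t u, Commute (f l t) (f l' u))
    (ι : Fin (m + 2) → Fin N) (hι : Function.Injective ι)
    (act : G →* Module.End K (Fin N → K)) (ε : K) (hε : ε ≠ 0)
    (hfix : ∀ l, l ≠ k → ∀ t l', l' ≠ k → act (f l t) (Pi.single (ι l') 1) = Pi.single (ι l') 1)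
    (hmove : ∀ l, l ≠ k → ∀ t,
      act (f l t) (Pi.single (ι k) 1) = Pi.single (ι k) 1 + Pi.single (ι l) (ε * t))
    {g : G} (hg : g ∈ Subgroup.closure {g | ∃ l, l ≠ k ∧ ∃ t, g = f l t}) :
    act g (Pi.single (ι k) 1) (ι k) = 1 ∧
      (act g (Pi.single (ι k) 1) = Pi.single (ι k) 1 → g = 1) := by
  classical
  obtain ⟨ρ, hρ1, hρ2⟩ := col_param S k hadd hcomm
  have hkey : ∀ r : (∀ _l : {l // l ≠ k}, Multiplicative K),
      (∀ l' : {l // l ≠ k}, act (ρ r) (Pi.single (ι l'.1) 1) = Pi.single (ι l'.1) 1) ∧
      act (ρ r) (Pi.single (ι k) 1)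
        = Pi.single (ι k) 1 + ∑ l : {l // l ≠ k}, (ε * (r l).toAdd) • Pi.single (ι l.1) (1 : K) := by
    intro r
    induction r using Pi.mulSingle_induction with
    | one => simp
    | mul r r' hr hr' =>
      refine ⟨fun l' => ?_, ?_⟩
      · rw [map_mul, map_mul, Module.End.mul_apply, hr'.1, hr.1]
      · rw [map_mul, map_mul, Module.End.mul_apply, hr'.2, map_add, hr.2, map_sum]
        simp only [map_smul, hr.1, Pi.mul_apply, toAdd_mul, mul_add, add_smul,
          Finset.sum_add_distrib, add_assoc]
    | mulSingle l t =>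
      rw [show t = ofAdd t.toAdd from rfl, hρ1]
      refine ⟨fun l' => hfix _ l.2 _ _ l'.2, ?_⟩
      rw [hmove _ l.2, Finset.sum_eq_single l]
      · rw [Pi.mulSingle_eq_same, ← Pi.single_smul]
        simp
      · intro b _ hb
        rw [Pi.mulSingle_eq_of_ne hb]
        simp
      · simp
  obtain ⟨r, rfl⟩ := hρ2 g hg
  obtain ⟨-, h2⟩ := hkey r
  refine ⟨?_, fun h => ?_⟩
  · rw [h2, Pi.add_apply, Pi.single_eq_same, Finset.sum_apply, Finset.sum_eq_zero, add_zero]
    intro l _
    rw [Pi.smul_apply, Pi.single_eq_of_ne (fun h => l.2 (hι h).symm), smul_zero]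
  · have hr : r = 1 := by
      funext l
      rw [h2, add_eq_left] at h
      have := congrFun h (ι l.1)
      rw [Finset.sum_apply, Finset.sum_eq_single l] at this
      · simp [hε] at this
        exact this
      · intro b _ hb
        rw [Pi.smul_apply, Pi.single_eq_of_ne (fun h => hb (Subtype.ext (hι h).symm)), smul_zero]
      · simp
    rw [hr, map_one]

/-- A group with the Steinberg relations embeds in the special linear group. -/
theorem injective_of_stRel [Finite K] : ∀ (n : ℕ) {G : Type*} [Group G]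
    (x : Fin n → Fin n → K → G), StRel x → ∀ {N : ℕ} (ι : Fin n → Fin N), Function.Injective ι →
    ∀ (φ : G →* Matrix.SpecialLinearGroup (Fin N) K),
      (∀ i j t, i ≠ j → ((φ (x i j t) : Matrix.SpecialLinearGroup (Fin N) K) :
        Matrix (Fin N) (Fin N) K) = transvection (ι i) (ι j) t) →
      Subgroup.closure {g | ∃ i j, i ≠ j ∧ ∃ t, g = x i j t} = ⊤ → Function.Injective φ := by
  intro n
  induction n with
  | zero =>
    intro G _ x _ N ι _ φ _ hgen
    have : ({g | ∃ i j : Fin 0, i ≠ j ∧ ∃ t, g = x i j t} : Set G) = ∅ :=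
      Set.eq_empty_iff_forall_notMem.2 fun g ⟨i, _⟩ => i.elim0
    rw [this, Subgroup.closure_empty] at hgen
    intro a b _
    have ha : a ∈ (⊥ : Subgroup G) := hgen ▸ Subgroup.mem_top a
    have hb : b ∈ (⊥ : Subgroup G) := hgen ▸ Subgroup.mem_top b
    rw [Subgroup.mem_bot.1 ha, Subgroup.mem_bot.1 hb]
  | succ n ih =>
    intro G _ x S N ι hι φ hφ hgen
    rcases n with _ | m
    · have : ({g | ∃ i j : Fin 1, i ≠ j ∧ ∃ t, g = x i j t} : Set G) = ∅ :=
        Set.eq_empty_iff_forall_notMem.2 fun g ⟨i, j, hij, _⟩ => hij (Subsingleton.elim i j)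
      rw [this, Subgroup.closure_empty] at hgen
      intro a b _
      have ha : a ∈ (⊥ : Subgroup G) := hgen ▸ Subgroup.mem_top a
      have hb : b ∈ (⊥ : Subgroup G) := hgen ▸ Subgroup.mem_top b
      rw [Subgroup.mem_bot.1 ha, Subgroup.mem_bot.1 hb]
    -- the actions on generators
    have hcol : ∀ i j t, i ≠ j → ∀ (r : Fin (m + 2)) (v : K),
        colAct φ (x i j t) (Pi.single (ι r) v)
          = Pi.single (ι r) v + if j = r then Pi.single (ι i) (t * v) else 0 := by
      intro i j t hij r v
      show Matrix.toLin' _ _ = _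
      rw [Matrix.toLin'_apply, hφ i j t hij, transvection_mulVec_single]
      simp [hι.eq_iff]
    have hrow : ∀ i j t, i ≠ j → ∀ (r : Fin (m + 2)) (v : K),
        rowAct φ (x i j t) (Pi.single (ι r) v)
          = Pi.single (ι r) v + if i = r then Pi.single (ι j) (v * -t) else 0 := by
      intro i j t hij r v
      show Matrix.vecMulLinear _ _ = _
      rw [← S.neg hij, Matrix.vecMulLinear_apply, hφ i j (-t) hij, single_vecMul_transvection]
      simp [hι.eq_iff]
    have hcolW : ∀ a b t, a ≠ b → t ≠ 0 → colAct φ (Ww x a b t) (Pi.single (ι a) 1)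
        = Pi.single (ι b) (-t⁻¹) := by
      intro a b t hab ht
      simp only [Ww, map_mul, Module.End.mul_apply]
      rw [hcol a b _ hab, if_neg hab.symm, add_zero, hcol b a _ hab.symm, if_pos rfl, map_add,
        hcol a b _ hab, if_neg hab.symm, hcol a b _ hab, if_pos rfl, add_zero, mul_one,
        show t * -t⁻¹ = -1 by field_simp, add_left_comm, ← Pi.single_add, add_neg_cancel,
        Pi.single_zero, add_zero]
    have hcolW' : ∀ a b t, a ≠ b → t ≠ 0 → colAct φ (Ww x a b t) (Pi.single (ι b) 1)
        = Pi.single (ι a) t := by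
      intro a b t hab ht
      rw [S.W_flip hab ht, hcolW b a _ hab.symm (neg_ne_zero.2 (inv_ne_zero ht))]
      simp
    have h01 : (0 : Fin (m + 2)) ≠ 1 := zero_ne_one
    have hH : ∀ μ : Kˣ, colAct φ (S.H h01 μ) (Pi.single (ι 0) 1) = Pi.single (ι 0) (μ : K) := by
      intro μ
      rw [S.H_eq h01 μ (c := 1) one_ne_zero, one_mul, S.W_inv h01, map_mul, Module.End.mul_apply,
        hcolW 0 1 _ h01 (by simp), inv_neg, inv_one, neg_neg, hcolW' 0 1 _ h01 μ.ne_zero]
    -- subgroups fixing vectors
    have fixedBy : ∀ (act : G →* Module.End K (Fin N → K)) (v : Fin N → K) (s : Set G),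
        (∀ g ∈ s, act g v = v) → ∀ g ∈ Subgroup.closure s, act g v = v := by
      intro act v s hs g hg
      induction hg using Subgroup.closure_induction with
      | mem g hg => exact hs g hg
      | one => simp
      | mul a b _ _ ha hb => rw [map_mul, Module.End.mul_apply, hb, ha]
      | inv a _ ha =>
        conv_lhs => rw [← ha]
        rw [← Module.End.mul_apply, ← map_mul, inv_mul_cancel, map_one, Module.End.one_apply]
    have hrowfix : ∀ c ∈ rowGroup x, colAct φ c (Pi.single (ι 0) 1) = Pi.single (ι 0) 1 :=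
      fixedBy _ _ _ fun g ⟨l, hl, t, hg⟩ => by rw [hg, hcol 0 l t hl.symm, if_neg hl, add_zero]
    have htailfix : ∀ a ∈ tailGroup x, colAct φ a (Pi.single (ι 0) 1) = Pi.single (ι 0) 1 :=
      fixedBy _ _ _ fun g ⟨i, j, hij, hi, hj, t, hg⟩ => by rw [hg, hcol i j t hij, if_neg hj, add_zero]
    have htailrow : ∀ a ∈ tailGroup x, rowAct φ a (Pi.single (ι 0) 1) = Pi.single (ι 0) 1 :=
      fixedBy _ _ _ fun g ⟨i, j, hij, hi, hj, t, hg⟩ => by rw [hg, hrow i j t hij, if_neg hi, add_zero]
    -- the action on the first column of the stabiliser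
    have hQ : ∀ q ∈ bigQ S, ∃ μ : Kˣ, colAct φ q (Pi.single (ι 0) 1) = Pi.single (ι 0) (μ : K) := by
      intro q hq
      obtain ⟨c, hc, a, ha, μ, rfl⟩ := q_normal_form S hq
      refine ⟨μ, ?_⟩
      have e : Pi.single (ι 0) (μ : K) = (μ : K) • Pi.single (ι 0) (1 : K) := by
        rw [← Pi.single_smul]; simp
      rw [map_mul, map_mul, Module.End.mul_apply, Module.End.mul_apply, hH, e, map_smul,
        htailfix a ha, map_smul, hrowfix c hc]
    -- the kernel on the stabiliser is trivial
    have hQinj : ∀ q ∈ bigQ S, φ q = 1 → q = 1 := by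
      intro q hq h1
      obtain ⟨c, hc, a, ha, μ, rfl⟩ := q_normal_form S hq
      have hact : ∀ v, colAct φ (c * a * S.H h01 μ) v = v := fun v => by
        show Matrix.toLin' _ v = v
        rw [h1, Matrix.SpecialLinearGroup.coe_one, Matrix.toLin'_one]; rfl
      have hμ : μ = 1 := by
        have h := hact (Pi.single (ι 0) 1)
        have e : Pi.single (ι 0) (μ : K) = (μ : K) • Pi.single (ι 0) (1 : K) := by
          rw [← Pi.single_smul]; simp
        rw [map_mul, map_mul, Module.End.mul_apply, Module.End.mul_apply, hH, e, map_smul,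
          htailfix a ha, map_smul, hrowfix c hc] at h
        exact Units.ext (by simpa using congrFun h (ι 0))
      subst hμ
      rw [StRel.H, map_one, map_one, mul_one] at h1 ⊢
      have hc1 : c = 1 := by
        refine (param_act S 0 (fun l hl t u => S.add 0 l t u hl.symm)
          (fun l l' hl hl' t u => S.comm0 0 l 0 l' hl.symm hl'.symm hl'.symm hl t u) ι hι
          (rowAct φ) (-1) (neg_ne_zero.2 one_ne_zero) ?_ ?_ hc).2 ?_
        · intro l hl t l' hl'
          rw [hrow 0 l t hl.symm, if_neg hl'.symm, add_zero]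
        · intro l hl t
          rw [hrow 0 l t hl.symm, if_pos rfl]
          simp
        · have h := congrArg (fun g => rowAct φ g (Pi.single (ι 0) 1)) (mul_inv_cancel_right c a)
          beta_reduce at h
          rw [map_mul, Module.End.mul_apply] at h
          have e1 : rowAct φ a⁻¹ (Pi.single (ι 0) 1) = Pi.single (ι 0) 1 :=
            htailrow _ (inv_mem ha)
          rw [e1] at h
          rw [← h]
          show Matrix.vecMulLinear _ _ = _
          rw [map_inv, h1, inv_one, Matrix.SpecialLinearGroup.coe_one, Matrix.vecMulLinear_apply,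
            vecMul_one]
      subst hc1
      rw [one_mul] at h1 ⊢
      -- induction on the remaining indices
      let x' : Fin (m + 1) → Fin (m + 1) → K → tailGroup x := fun i j t =>
        if h : i = j then 1 else ⟨x i.succ j.succ t,
          tail_mem (fun e => h (Fin.succ_inj.1 e)) (Fin.succ_ne_zero i) (Fin.succ_ne_zero j) t⟩
      have hx' : ∀ i j t, i ≠ j → (x' i j t : G) = x i.succ j.succ t := by
        intro i j t hij; simp [x', hij]
      have hs : ∀ {i j : Fin (m + 1)}, i ≠ j → i.succ ≠ j.succ :=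
        fun h e => h (Fin.succ_inj.1 e)
      have S' : StRel x' :=
        { add := fun i j t u hij => Subtype.ext (by
            rw [Subgroup.coe_mul, hx' _ _ _ hij, hx' _ _ _ hij, hx' _ _ _ hij]
            exact S.add _ _ _ _ (hs hij))
          comm0 := fun i j k l hij hkl hil hjk t u => Subtype.ext (by
            rw [Subgroup.coe_mul, Subgroup.coe_mul, hx' _ _ _ hij, hx' _ _ _ hkl]
            exact (S.comm0 _ _ _ _ (hs hij) (hs hkl) (hs hil) (hs hjk) t u).eq)
          comm1 := fun i j k hij hjk hik t u => Subtype.ext (by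
            simp only [Subgroup.coe_mul, Subgroup.coe_inv, hx' _ _ _ hij, hx' _ _ _ hjk,
              hx' _ _ _ hik]
            exact S.comm1 _ _ _ (hs hij) (hs hjk) (hs hik) t u)
          rank1 := fun a b hab t u ht => Subtype.ext (by
            simp only [Ww, Subgroup.coe_mul, Subgroup.coe_inv, hx' _ _ _ hab, hx' _ _ _ hab.symm]
            exact S.rank1 _ _ (hs hab) t u ht) }
      have hinj := ih x' S' (fun i => ι i.succ) (fun a b h => Fin.succ_inj.1 (hι h))
        (φ.comp (tailGroup x).subtype)
        (fun i j t hij => by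
          rw [MonoidHom.comp_apply, Subgroup.coe_subtype, hx' _ _ _ hij]
          exact hφ _ _ _ (hs hij))
        (by
          rw [eq_top_iff]
          intro y _
          obtain ⟨z, hz⟩ := y
          have key : z ∈ (Subgroup.closure {g | ∃ i j, i ≠ j ∧ ∃ t, g = x' i j t}).map
              (tailGroup x).subtype := by
            refine (Subgroup.closure_le _).2 ?_ hz
            rintro _ ⟨i, j, hij, hi, hj, t, rfl⟩
            obtain ⟨i', rfl⟩ := Fin.exists_succ_eq.2 hi
            obtain ⟨j', rfl⟩ := Fin.exists_succ_eq.2 hj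
            have hij' : i' ≠ j' := fun e => hij (by rw [e])
            exact ⟨x' i' j' t, Subgroup.subset_closure ⟨i', j', hij', t, rfl⟩, hx' _ _ _ hij'⟩
          obtain ⟨y', hy', e⟩ := key
          rwa [← show y' = (⟨z, hz⟩ : tailGroup x) from Subtype.ext e])
      have := @hinj ⟨a, ha⟩ 1 (by simpa using h1)
      exact congrArg Subtype.val this
    -- every element lies in a cell
    have hcells : ∀ g, ∃ k, Cell S k g := by
      intro g
      refine Subgroup.closure_induction_left (p := fun g _ => ∃ k, Cell S k g) ?_ ?_ ?_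
        (hgen ▸ Subgroup.mem_top g : g ∈ Subgroup.closure _)
      · exact ⟨0, 1, one_mem _, 1, one_mem _, by simp [wk]⟩
      · rintro y ⟨i, j, hij, t, rfl⟩ z _ ⟨k, hk⟩
        exact cells_x_mul S hij t hk
      · rintro y ⟨i, j, hij, t, rfl⟩ z _ ⟨k, hk⟩
        rw [← S.neg hij]
        exact cells_x_mul S hij _ hk
    rw [injective_iff_map_eq_one]
    intro g hg
    obtain ⟨k, e, he, q, hq, rfl⟩ := hcells g
    obtain ⟨μ, hμ⟩ := hQ q hq
    have hact : ∀ v, colAct φ (e * wk x k * q) v = v := fun v => by
      show Matrix.toLin' _ v = v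
      rw [hg, Matrix.SpecialLinearGroup.coe_one, Matrix.toLin'_one]; rfl
    have hμ' : Pi.single (ι 0) (μ : K) = (μ : K) • Pi.single (ι 0) (1 : K) := by
      rw [← Pi.single_smul]; simp
    have hpar := param_act S k (fun l hl t u => S.add l k t u hl)
      (fun l l' hl hl' t u => S.comm0 l k l' k hl hl' hl hl'.symm t u) ι hι (colAct φ) 1 one_ne_zero
      (fun l hl t l' hl' => by rw [hcol l k t hl, if_neg hl'.symm, add_zero])
      (fun l hl t => by rw [hcol l k t hl, if_pos rfl, one_mul, mul_one]) he
    have h := hact (Pi.single (ι 0) 1)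
    rw [map_mul, map_mul, Module.End.mul_apply, Module.End.mul_apply, hμ, hμ', map_smul,
      map_smul] at h
    by_cases hk : k = 0
    · subst hk
      rw [show wk x (0 : Fin (m + 2)) = 1 from if_pos rfl] at h hg ⊢
      rw [map_one, Module.End.one_apply] at h
      have h0 := congrFun h (ι 0)
      rw [Pi.smul_apply, hpar.1, Pi.single_eq_same, smul_eq_mul, mul_one] at h0
      rw [h0, one_smul] at h
      rw [hpar.2 h, one_mul, one_mul] at hg ⊢
      exact hQinj q hq hg
    · exfalso
      rw [wk, if_neg hk, hcolW' k 0 _ hk one_ne_zero] at h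
      have h0 := congrFun h (ι k)
      rw [Pi.smul_apply, hpar.1, Pi.single_eq_of_ne (fun e => hk (hι e)), smul_eq_mul,
        mul_one] at h0
      exact μ.ne_zero h0

/-- Universal property: the Steinberg relations define a homomorphism out of SL_n. -/
theorem exists_hom [Finite K] {n : ℕ} {G : Type*} [Group G] (x : Fin n → Fin n → K → G)
    (S : StRel x) (φ : G →* Matrix.SpecialLinearGroup (Fin n) K)
    (hφ : ∀ i j t, i ≠ j → ((φ (x i j t) : Matrix.SpecialLinearGroup (Fin n) K) :
        Matrix (Fin n) (Fin n) K) = transvection i j t)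
    (hgen : Subgroup.closure {g | ∃ i j, i ≠ j ∧ ∃ t, g = x i j t} = ⊤) :
    Function.Injective φ :=
  injective_of_stRel n x S id Function.injective_id φ hφ hgen

end CfsgLib.SLSteinberg
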